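import Mathlib

/-!
# Descent through unipotent radicals, abstract part (helper340), S5719

* `le_card` : `L ≤ N(Q)`, all orbits of `Q` have at least `c` points, all subgroups of `L` leaving an orbit of `Q` invariant have
  index at least `c'`: then `c * c' ≤ |Ω|`;
* `fix_of_odd` : an element with square 1 normalising `Q`, `|Q|` odd, and leaving an orbit of `Q` invariant fixes a point of it;
* `index_ge` : the same for the cosets of a subgroup which avoids a set `I` of involutions.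
-/

set_option autoImplicit false

namespace Cfsg.Agent.H340.IF

open MulAction Subgroup

section

variable {G Ω : Type*} [Group G] [MulAction G Ω]

/-- the elements of `L` leaving the orbit of `x` under `Q` invariant -/
def stO (Q L : Subgroup G) (hLQ : ∀ l ∈ L, ∀ q ∈ Q, l * q * l⁻¹ ∈ Q) (x : Ω) : Subgroup G where
  carrier := {l | l ∈ L ∧ l • x ∈ orbit Q x}
  one_mem' := ⟨one_mem _, by rw [one_smul]; exact mem_orbit_self x⟩
  mul_mem' := by
    rintro a b ⟨ha, ⟨q, hq⟩⟩ ⟨hb, ⟨r, hr⟩⟩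
    refine ⟨mul_mem ha hb, ⟨⟨a * r * a⁻¹, hLQ a ha r r.2⟩ * q, ?_⟩⟩
    change ((a * r * a⁻¹) * (q : G)) • x = (a * b) • x
    change (q : G) • x = a • x at hq
    change (r : G) • x = b • x at hr
    rw [mul_smul, hq, ← mul_smul, mul_smul a b, ← hr, ← mul_smul, inv_mul_cancel_right]
  inv_mem' := by
    rintro a ⟨ha, ⟨q, hq⟩⟩
    change (q : G) • x = a • x at hq
    refine ⟨inv_mem ha, ⟨⟨a⁻¹ * (q : G)⁻¹ * a⁻¹⁻¹, hLQ _ (inv_mem ha) _ (inv_mem q.2)⟩, ?_⟩⟩
    change (a⁻¹ * (q : G)⁻¹ * a⁻¹⁻¹) • x = a⁻¹ • x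
    rw [inv_inv, mul_smul, mul_smul, ← hq, inv_smul_smul]

theorem mem_stO {Q L : Subgroup G} {hLQ : ∀ l ∈ L, ∀ q ∈ Q, l * q * l⁻¹ ∈ Q} {x : Ω} {l : G} :
    l ∈ stO Q L hLQ x ↔ l ∈ L ∧ l • x ∈ orbit Q x := Iff.rfl

/-- **counting** -/
theorem le_card [Finite G] [Finite Ω] {Q L : Subgroup G} (hLQ : ∀ l ∈ L, ∀ q ∈ Q, l * q * l⁻¹ ∈ Q) {c c' : ℕ}
    (x : Ω) (h1 : ∀ l ∈ L, c ≤ Nat.card (orbit Q (l • x))) (h2 : c' ≤ (stO Q L hLQ x).relIndex L) :
    c * c' ≤ Nat.card Ω := by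
  classical
  -- the cosets of the stabiliser give disjoint orbits
  have hfin : Finite (L ⧸ (stO Q L hLQ x).subgroupOf L) := inferInstance
  let S : Type _ := Σ k : L ⧸ (stO Q L hLQ x).subgroupOf L, (orbit Q ((k.out : G) • x) : Set Ω)
  have hS : c * c' ≤ Nat.card S := by
    haveI := Fintype.ofFinite (L ⧸ (stO Q L hLQ x).subgroupOf L)
    rw [Nat.card_sigma]
    have h3 : ∀ k : L ⧸ (stO Q L hLQ x).subgroupOf L, c ≤ Nat.card (orbit Q ((k.out : G) • x) : Set Ω) :=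
      fun k => h1 _ k.out.2
    refine le_trans ?_ (Finset.card_nsmul_le_sum Finset.univ _ c fun k _ => h3 k)
    rw [smul_eq_mul, Finset.card_univ, ← Nat.card_eq_fintype_card, mul_comm]
    exact Nat.mul_le_mul_right _ h2
  refine hS.trans (Nat.card_le_card_of_injective (fun s : S => (s.2 : Ω)) ?_)
  rintro ⟨k, y, hy⟩ ⟨k', y', hy'⟩ hyy
  change y = y' at hyy
  subst hyy
  have hk : k = k' := by
    obtain ⟨q, hq⟩ := hy
    obtain ⟨q', hq'⟩ := hy'
    change (q : G) • ((k.out : G) • x) = y at hq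
    change (q' : G) • ((k'.out : G) • x) = y at hq'
    rw [← k.out_eq', ← k'.out_eq', QuotientGroup.eq, mem_subgroupOf, mem_stO]
    refine ⟨SetLike.coe_mem _, ?_⟩
    have h4 : ((k.out : G)⁻¹ * (k'.out : G)) • x =
        ((k.out : G)⁻¹ * ((q : G)⁻¹ * q')⁻¹ * (k.out : G)⁻¹⁻¹) • x := by
      rw [mul_smul, inv_inv, mul_smul, mul_smul, mul_inv_rev, inv_inv, mul_smul, hq, ← hq', inv_smul_smul]
    refine ⟨⟨(k.out : G)⁻¹ * ((q : G)⁻¹ * q')⁻¹ * (k.out : G)⁻¹⁻¹, hLQ _ (inv_mem k.out.2) _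
      (inv_mem (mul_mem (inv_mem q.2) q'.2))⟩, ?_⟩
    exact h4.symm
  subst hk
  rfl

/-- **an involution leaving an orbit of odd length invariant** -/
theorem fix_of_odd [Finite G] {Q : Subgroup G} (hQ : Odd (Nat.card Q)) {y : G} (hy : y * y = 1)
    (hn : ∀ q ∈ Q, y * q * y⁻¹ ∈ Q) {x : Ω} (hx : y • x ∈ orbit Q x) : ∃ q ∈ Q, y • q • x = q • x := by
  classical
  have hyz : ∀ z ∈ orbit Q x, y • z ∈ orbit Q x := by
    rintro _ ⟨q, rfl⟩
    obtain ⟨r, hr⟩ := hx
    change (r : G) • x = y • x at hr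
    refine ⟨⟨y * q * y⁻¹, hn q q.2⟩ * r, ?_⟩
    change ((y * q * y⁻¹) * (r : G)) • x = y • (q : G) • x
    rw [mul_smul, hr, ← mul_smul, ← mul_smul, inv_mul_cancel_right]
  let g : Function.End (orbit Q x) := fun z => ⟨y • z.1, hyz z z.2⟩
  have hinv : ∀ z, g (g z) = z := by
    intro z
    apply Subtype.ext
    change y • y • z.1 = z.1
    rw [smul_smul, hy, one_smul]
  have hfin : Finite (orbit Q x) := Set.finite_coe_iff.2 (Set.toFinite _ |>.subset (s := Set.range fun q : Q => q • x)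
    (fun z hz => hz))
  have hfint : Fintype (orbit Q x) := Fintype.ofFinite _
  have hodd : Odd (Fintype.card (orbit Q x)) := by
    rw [← Nat.card_eq_fintype_card, Nat.card_coe_set_eq, ← MulAction.index_stabilizer]
    exact Odd.of_dvd_nat hQ (Subgroup.index_dvd_card _)
  by_contra hcon
  push Not at hcon
  have hno : IsEmpty (Function.fixedPoints g) := by
    constructor
    rintro ⟨⟨_, q, rfl⟩, h⟩
    exact hcon q q.2 (congrArg Subtype.val h)
  have h2 : g ^ 2 ^ 1 = 1 := by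
    funext z
    exact hinv z
  have : Fact (Nat.Prime 2) := ⟨Nat.prime_two⟩
  have h3 := Equiv.Perm.card_fixedPoints_modEq h2
  rw [Fintype.card_eq_zero (α := Function.fixedPoints g)] at h3
  have heven : Even (Fintype.card (orbit Q x)) := by
    rw [Nat.even_iff]
    exact h3
  exact (Nat.not_even_iff_odd.2 hodd) heven

end

section

variable {G : Type*} [Group G] [Finite G]

/-- **Descent.** `X` avoids the conjugation invariant set `I` of elements of square one; `|Q|` is odd and `L` normalises `Q`;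
`X^g ∩ Q` has index at least `c` in `Q` for all `g`; every subgroup of `L` avoiding `I` has index at least `c'` in `L`. -/
theorem index_ge {X Q L : Subgroup G} {I : Set G} (hI : ∀ g, ∀ i ∈ I, g * i * g⁻¹ ∈ I) (hI2 : ∀ i ∈ I, i * i = 1)
    (hX : ∀ i ∈ I, i ∉ X) (hQ : Odd (Nat.card Q)) (hLQ : ∀ l ∈ L, ∀ q ∈ Q, l * q * l⁻¹ ∈ Q) {c c' : ℕ}
    (h1 : ∀ g : G, c ≤ (X.map (MulAut.conj g).toMonoidHom).relIndex Q)
    (h2 : ∀ Y : Subgroup G, Y ≤ L → (∀ i ∈ I, i ∉ Y) → c' ≤ Y.relIndex L) : c * c' ≤ X.index := by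
  rw [Subgroup.index]
  refine le_card hLQ ((1 : G) : G ⧸ X) (fun l _ => ?_) (h2 _ (fun y hy => hy.1) ?_)
  · refine (h1 l).trans (le_of_eq ?_)
    rw [Nat.card_coe_set_eq]
    refine Eq.trans ?_ (MulAction.index_stabilizer Q (l • ((1 : G) : G ⧸ X)))
    rw [Subgroup.relIndex]
    congr 1
    ext q
    rw [mem_subgroupOf, mem_stabilizer_iff]
    change (q : G) ∈ X.map (MulAut.conj l).toMonoidHom ↔ (((q : G) * (l * 1) : G) : G ⧸ X) = ((l * 1 : G) : G ⧸ X)
    rw [eq_comm, QuotientGroup.eq]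
    constructor
    · rintro ⟨x, hx, hq⟩
      rw [← hq]
      simpa [MulAut.conj_apply, mul_assoc] using hx
    · intro h
      refine ⟨_, h, ?_⟩
      simp [MulAut.conj_apply, mul_assoc]
  · rintro i hi ⟨hiL, hiQ⟩
    obtain ⟨q, hq, hfix⟩ := fix_of_odd hQ (hI2 i hi) (hLQ i hiL) hiQ
    apply hX _ (hI q⁻¹ i hi)
    rw [inv_inv]
    have h3 : (((i * (q * 1)) : G) : G ⧸ X) = ((q * 1 : G) : G ⧸ X) := hfix
    rw [eq_comm, QuotientGroup.eq] at h3
    simpa [mul_assoc] using h3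

end

end Cfsg.Agent.H340.IF
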