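import Mathlib
import Cfsg.Agent.LieClassical.GUOrder

/-!
# S5719, `PSp_2m(q)`, `q` odd: `GU_m(q)` in the centraliser of `J` (helper340)

`F` a field in which `-1` is not a square, `Q = F(i)` (`QuadraticAlgebra F (-1) 0`).

* `Ph : Matrix (Fin m) (Fin m) Q → Matrix (Fin m ⊕ Fin m) (Fin m ⊕ Fin m) F`, `A + iB ↦ [A, -B; B, A]`;
* `jGU : GU m Q q →* symplecticGroup (Fin m) F`, `jGU_inj`, `jGU_comm` (the image commutes with `J`).
-/

set_option autoImplicit false
set_option linter.unusedSectionVars false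

namespace Cfsg.Agent.H340.IF.Sp

open Matrix Cfsg Cfsg.Agent.LieClassical.GUOrder

/-- `F(i)` -/
abbrev Qd (F : Type*) [Field F] : Type _ := QuadraticAlgebra F (-1) 0

section Ring

variable {F : Type*} [Field F] {m : ℕ}

/-- `A + iB ↦ [A, -B; B, A]` -/
def Ph (M : Matrix (Fin m) (Fin m) (Qd F)) : Matrix (Fin m ⊕ Fin m) (Fin m ⊕ Fin m) F :=
  fromBlocks (M.map QuadraticAlgebra.re) (-(M.map QuadraticAlgebra.im)) (M.map QuadraticAlgebra.im)
    (M.map QuadraticAlgebra.re)

theorem Ph_inj {M N : Matrix (Fin m) (Fin m) (Qd F)} (h : Ph M = Ph N) : M = N := by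
  rw [Ph, Ph, fromBlocks_inj] at h
  ext i j
  · exact congrFun (congrFun h.1 i) j
  · exact congrFun (congrFun h.2.2.1 i) j

theorem re_sum {ι : Type*} (s : Finset ι) (f : ι → Qd F) : (∑ i ∈ s, f i).re = ∑ i ∈ s, (f i).re :=
  map_sum (QuadraticAlgebra.reₗ (-1 : F) 0) f s

theorem im_sum {ι : Type*} (s : Finset ι) (f : ι → Qd F) : (∑ i ∈ s, f i).im = ∑ i ∈ s, (f i).im :=
  map_sum (QuadraticAlgebra.imₗ (-1 : F) 0) f s

theorem Ph_mul (M N : Matrix (Fin m) (Fin m) (Qd F)) : Ph (M * N) = Ph M * Ph N := by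
  have h1 : (M * N).map QuadraticAlgebra.re = M.map QuadraticAlgebra.re * N.map QuadraticAlgebra.re -
      M.map QuadraticAlgebra.im * N.map QuadraticAlgebra.im := by
    ext i j
    rw [Matrix.map_apply, Matrix.mul_apply, re_sum, Matrix.sub_apply, Matrix.mul_apply, Matrix.mul_apply,
      ← Finset.sum_sub_distrib]
    refine Finset.sum_congr rfl fun k _ => ?_
    simp only [Matrix.map_apply, QuadraticAlgebra.re_mul]
    ring
  have h2 : (M * N).map QuadraticAlgebra.im = M.map QuadraticAlgebra.re * N.map QuadraticAlgebra.im +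
      M.map QuadraticAlgebra.im * N.map QuadraticAlgebra.re := by
    ext i j
    rw [Matrix.map_apply, Matrix.mul_apply, im_sum, Matrix.add_apply, Matrix.mul_apply, Matrix.mul_apply,
      ← Finset.sum_add_distrib]
    refine Finset.sum_congr rfl fun k _ => ?_
    simp only [Matrix.map_apply, QuadraticAlgebra.im_mul]
    ring
  rw [Ph, Ph, Ph, fromBlocks_multiply, h1, h2]
  congr 1
  · rw [Matrix.neg_mul, sub_eq_add_neg]
  · rw [Matrix.mul_neg, Matrix.neg_mul, neg_add]
  · rw [add_comm]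
  · rw [Matrix.mul_neg, sub_eq_neg_add]

theorem Ph_one : Ph (1 : Matrix (Fin m) (Fin m) (Qd F)) = 1 := by
  rw [Ph, ← fromBlocks_one]
  congr 1
  · ext i j
    by_cases hij : i = j
    · subst hij; simp [QuadraticAlgebra.re_one]
    · simp [hij]
  · ext i j
    by_cases hij : i = j
    · subst hij; simp [QuadraticAlgebra.im_one]
    · simp [hij]
  · ext i j
    by_cases hij : i = j
    · subst hij; simp [QuadraticAlgebra.im_one]
    · simp [hij]
  · ext i j
    by_cases hij : i = j
    · subst hij; simp [QuadraticAlgebra.re_one]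
    · simp [hij]

theorem Ph_omega : Ph (Matrix.diagonal (fun _ => QuadraticAlgebra.omega) : Matrix (Fin m) (Fin m) (Qd F)) =
    J (Fin m) F := by
  rw [Ph, J]
  congr 1
  · ext i j
    by_cases hij : i = j
    · subst hij; simp
    · simp [hij]
  · ext i j
    by_cases hij : i = j
    · subst hij; simp
    · simp [hij]
  · ext i j
    by_cases hij : i = j
    · subst hij; simp
    · simp [hij]
  · ext i j
    by_cases hij : i = j
    · subst hij; simp
    · simp [hij]

theorem Ph_star (M : Matrix (Fin m) (Fin m) (Qd F)) : Ph (M.map star)ᵀ = (Ph M)ᵀ := by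
  rw [Ph, Ph, fromBlocks_transpose]
  congr 1
  · ext i j
    simp
  · ext i j
    simp
  · ext i j
    simp

theorem Ph_neg (M : Matrix (Fin m) (Fin m) (Qd F)) : Ph (-M) = -Ph M := by
  rw [Ph, Ph, fromBlocks_neg]
  rfl

end Ring

section Fld

variable {F : Type*} [Field F] [Fintype F] {m : ℕ}

instance : Fintype (Qd F) := Fintype.ofEquiv (F × F) (QuadraticAlgebra.equivProd (-1 : F) 0).symm

theorem card_Qd : Fintype.card (Qd F) = Fintype.card F ^ 2 := by
  rw [Fintype.ofEquiv_card, Fintype.card_prod, pow_two]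

theorem fact_of (h : ¬ IsSquare (-1 : F)) : Fact (∀ r : F, r ^ 2 ≠ -1 + 0 * r) := by
  refine ⟨fun r hr => h ⟨r, ?_⟩⟩
  rw [zero_mul, add_zero] at hr
  rw [← hr, pow_two]

variable [Fact (∀ r : F, r ^ 2 ≠ -1 + 0 * r)]

theorem omega_sq : (QuadraticAlgebra.omega : Qd F) ^ 2 = -1 := by
  rw [pow_two, QuadraticAlgebra.omega_mul_omega_eq_mk]
  ext
  · simp [QuadraticAlgebra.re_one]
  · simp [QuadraticAlgebra.im_one]

theorem card_mod : Fintype.card F % 4 = 3 := by
  have h := Fact.out (p := ∀ r : F, r ^ 2 ≠ -1 + 0 * r)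
  by_contra hcon
  obtain ⟨r, hr⟩ := FiniteField.isSquare_neg_one_iff.2 hcon
  apply h r
  rw [zero_mul, add_zero, hr, pow_two]

theorem frob_eq (x : Qd F) : frob (card_Qd (F := F)) x = star x := by
  have h1 : x = algebraMap F (Qd F) x.re + algebraMap F (Qd F) x.im * QuadraticAlgebra.omega := by
    ext
    · simp
    · simp
  have h2 : ∀ r : F, frob (card_Qd (F := F)) (algebraMap F (Qd F) r) = algebraMap F (Qd F) r := by
    intro r
    rw [frob_apply, ← map_pow, FiniteField.pow_card]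
  have h3 : frob (card_Qd (F := F)) (QuadraticAlgebra.omega : Qd F) = -QuadraticAlgebra.omega := by
    rw [frob_apply]
    have h4 : Fintype.card F = 2 * (2 * (Fintype.card F / 4) + 1) + 1 := by
      have := card_mod (F := F)
      omega
    rw [h4, pow_succ, pow_mul, omega_sq, Odd.neg_one_pow ⟨_, rfl⟩, neg_one_mul]
  have h5 : star x = algebraMap F (Qd F) x.re + algebraMap F (Qd F) x.im * (-QuadraticAlgebra.omega) := by
    ext
    · simp
    · simp
  rw [h5]
  conv_lhs => rw [h1]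
  rw [map_add, map_mul, h2, h2, h3]

theorem Ph_mem (g : GU m (Qd F) (Fintype.card F)) :
    Ph ((g : GL (Fin m) (Qd F)) : Matrix (Fin m) (Fin m) (Qd F)) ∈ symplecticGroup (Fin m) F := by
  set M := ((g : GL (Fin m) (Qd F)) : Matrix (Fin m) (Fin m) (Qd F)) with hM
  have h1 : Mᵀ * M.map (frob (card_Qd (F := F))) = 1 := (mul_map_eq_one_iff card_Qd M).1 g.2
  have h2 : M.map (frob (card_Qd (F := F))) = M.map star := by
    ext i j
    · rw [Matrix.map_apply, Matrix.map_apply, frob_eq]
    · rw [Matrix.map_apply, Matrix.map_apply, frob_eq]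
  rw [h2] at h1
  have h3 : (M.map star)ᵀ * M = 1 := by
    have h4 := congrArg Matrix.transpose h1
    rw [Matrix.transpose_mul, Matrix.transpose_transpose, Matrix.transpose_one] at h4
    exact h4
  rw [SymplecticGroup.mem_iff', ← Ph_star, ← Ph_omega, ← Ph_mul, ← Ph_mul]
  congr 1
  rw [Matrix.mul_assoc]
  have h5 : (Matrix.diagonal (fun _ => QuadraticAlgebra.omega) : Matrix (Fin m) (Fin m) (Qd F)) =
      (QuadraticAlgebra.omega : Qd F) • (1 : Matrix (Fin m) (Fin m) (Qd F)) := by
    rw [Matrix.smul_one_eq_diagonal]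
  rw [h5, Matrix.smul_mul, Matrix.one_mul, Matrix.mul_smul, h3]

/-- `GU_m(q) → Sp_2m(q)` -/
def jGU : GU m (Qd F) (Fintype.card F) →* symplecticGroup (Fin m) F where
  toFun g := ⟨_, Ph_mem g⟩
  map_one' := Subtype.ext Ph_one
  map_mul' _ _ := Subtype.ext (Ph_mul _ _)

theorem coe_jGU (g : GU m (Qd F) (Fintype.card F)) :
    ((jGU g : symplecticGroup (Fin m) F) : Matrix (Fin m ⊕ Fin m) (Fin m ⊕ Fin m) F) =
      Ph ((g : GL (Fin m) (Qd F)) : Matrix (Fin m) (Fin m) (Qd F)) := rfl

theorem jGU_inj : Function.Injective (jGU (F := F) (m := m)) := by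
  intro a b hab
  have h1 := congrArg Subtype.val hab
  rw [coe_jGU, coe_jGU] at h1
  exact Subtype.ext (Units.ext (Ph_inj h1))

theorem jGU_comm (g : GU m (Qd F) (Fintype.card F)) :
    jGU g * SymplecticGroup.symJ (Fin m) F = SymplecticGroup.symJ (Fin m) F * jGU g := by
  apply Subtype.ext
  change Ph _ * J (Fin m) F = J (Fin m) F * Ph _
  rw [← Ph_omega, ← Ph_mul, ← Ph_mul]
  congr 1
  have h5 : (Matrix.diagonal (fun _ => QuadraticAlgebra.omega) : Matrix (Fin m) (Fin m) (Qd F)) =
      (QuadraticAlgebra.omega : Qd F) • (1 : Matrix (Fin m) (Fin m) (Qd F)) := by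
    rw [Matrix.smul_one_eq_diagonal]
  rw [h5, Matrix.smul_mul, Matrix.one_mul, Matrix.mul_smul, Matrix.mul_one]

end Fld

end Cfsg.Agent.H340.IF.Sp
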