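import Mathlib

/-!
# S5719, `PSp_2m(q)`, `q` odd: `GL_m(q)` in the centraliser of `diag(i, -i)` (helper340)

* `jGL : GL (Fin m) F →* symplecticGroup (Fin m) F`, `A ↦ [A, 0; 0, A⁻¹ᵀ]`, `jGL_inj`;
* `dI i` (`i² = -1`) : `[i, 0; 0, -i]`, `dI_sq`, `jGL_comm`.
-/

set_option autoImplicit false
set_option linter.unusedSectionVars false

namespace Cfsg.Agent.H340.IF.Sp

open Matrix

variable {F : Type*} [Field F] {m : ℕ}

theorem lev_mem (A : GL (Fin m) F) :
    fromBlocks (A : Matrix (Fin m) (Fin m) F) 0 0 ((A⁻¹ : GL (Fin m) F) : Matrix (Fin m) (Fin m) F)ᵀ ∈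
      symplecticGroup (Fin m) F := by
  rw [SymplecticGroup.fromBlocks_mem_iff]
  refine ⟨by simp, by simp, ?_⟩
  rw [Matrix.transpose_zero, Matrix.zero_mul, sub_zero, ← Matrix.transpose_mul]
  have h1 : ((A⁻¹ : GL (Fin m) F) : Matrix (Fin m) (Fin m) F) * (A : Matrix (Fin m) (Fin m) F) = 1 := by
    rw [← Units.val_mul, inv_mul_cancel, Units.val_one]
  rw [h1, Matrix.transpose_one]

/-- `A ↦ [A, 0; 0, A⁻¹ᵀ]` -/
def jGL : GL (Fin m) F →* symplecticGroup (Fin m) F where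
  toFun A := ⟨_, lev_mem A⟩
  map_one' := by
    apply Subtype.ext
    change fromBlocks ((1 : GL (Fin m) F) : Matrix (Fin m) (Fin m) F) 0 0
      (((1 : GL (Fin m) F)⁻¹ : GL (Fin m) F) : Matrix (Fin m) (Fin m) F)ᵀ = 1
    rw [inv_one, Units.val_one, Matrix.transpose_one, fromBlocks_one]
  map_mul' A B := by
    apply Subtype.ext
    change fromBlocks ((A * B : GL (Fin m) F) : Matrix (Fin m) (Fin m) F) 0 0
      (((A * B)⁻¹ : GL (Fin m) F) : Matrix (Fin m) (Fin m) F)ᵀ = fromBlocks _ 0 0 _ * fromBlocks _ 0 0 _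
    rw [fromBlocks_multiply, _root_.mul_inv_rev, Units.val_mul, Units.val_mul, Matrix.transpose_mul]
    congr 1 <;> simp

theorem coe_jGL (A : GL (Fin m) F) : ((jGL A : symplecticGroup (Fin m) F) : Matrix (Fin m ⊕ Fin m) (Fin m ⊕ Fin m) F) =
    fromBlocks (A : Matrix (Fin m) (Fin m) F) 0 0 ((A⁻¹ : GL (Fin m) F) : Matrix (Fin m) (Fin m) F)ᵀ := rfl

theorem jGL_inj : Function.Injective (jGL (F := F) (m := m)) := by
  intro A B hAB
  have h1 := congrArg Subtype.val hAB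
  rw [coe_jGL, coe_jGL, fromBlocks_inj] at h1
  exact Units.ext h1.1

/-- `[i, 0; 0, -i]` -/
def dI (i : F) (hi : i * i = -1) : symplecticGroup (Fin m) F :=
  ⟨fromBlocks (i • 1) 0 0 (-i • 1), by
    rw [SymplecticGroup.fromBlocks_mem_iff]
    refine ⟨by simp, by simp, ?_⟩
    rw [Matrix.transpose_zero, Matrix.zero_mul, sub_zero, Matrix.transpose_smul, Matrix.transpose_one,
      Matrix.smul_mul, Matrix.one_mul, smul_smul, mul_neg, hi, neg_neg, one_smul]⟩

theorem dI_sq (i : F) (hi : i * i = -1) :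
    (dI i hi : symplecticGroup (Fin m) F).1 * (dI i hi : symplecticGroup (Fin m) F).1 = -1 := by
  change fromBlocks (i • 1) 0 0 (-i • 1) * fromBlocks (i • 1) 0 0 (-i • 1) = _
  rw [fromBlocks_multiply]
  simp only [Matrix.smul_mul, Matrix.mul_smul, Matrix.one_mul, smul_smul, neg_mul_neg, hi, Matrix.mul_zero,
    Matrix.zero_mul, add_zero, zero_add]
  rw [← fromBlocks_one, fromBlocks_neg]
  congr 1 <;> simp

theorem jGL_comm (i : F) (hi : i * i = -1) (A : GL (Fin m) F) : jGL A * dI i hi = dI i hi * jGL A := by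
  apply Subtype.ext
  change fromBlocks _ 0 0 _ * fromBlocks (i • 1) 0 0 (-i • 1) = fromBlocks (i • 1) 0 0 (-i • 1) * fromBlocks _ 0 0 _
  rw [fromBlocks_multiply, fromBlocks_multiply]
  simp

end Cfsg.Agent.H340.IF.Sp
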